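import Groth.Agent.Residue24.Laurent

/-! Residues and traces for finite extensions of a complete field with a coefficient field. -/

set_option autoImplicit false
set_option backward.isDefEq.respectTransparency.types false
set_option backward.isDefEq.respectTransparency false
set_option linter.style.haveILetI false

universe u v

namespace Groth.Agent.ResTrace28

open LinearMap WithZero LaurentSeries Groth.Agent.Residue24
open scoped LaurentSeries

/-- The image of an expansion is dense. -/
theorem exists_near_expansion' {k : Type*} {K : Type*} {F : Type*} [Field k] [Field K] [Field F] [Algebra k K] [Algebra k F]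
    {P : Valuation K (WithZero (Multiplicative ℤ))} {φ : K →ₐ[k] F⸨X⸩} (hφ : LocRes.IsExpansionAt P φ) (f : F⸨X⸩) (N : ℤ) :
    ∃ z : K, Valued.v (φ z - f) ≤ exp (-N) := by
  obtain ⟨t, ht⟩ := hφ.2.2
  suffices key : ∀ n : ℕ, ∀ N : ℤ, ∀ g : F⸨X⸩, Valued.v g ≤ exp (-N) → ∃ z : K, Valued.v (φ z - g) ≤ exp (-(N + n)) by
    rcases eq_or_ne f 0 with rfl | hf
    · exact ⟨0, by simp⟩
    set M := log (Valued.v f)
    obtain ⟨z, hz⟩ := key (N + M).toNat (-M) f (by rw [neg_neg, exp_log ((map_ne_zero _).mpr hf)])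
    exact ⟨z, hz.trans (exp_le_exp.mpr (by omega))⟩
  intro n
  induction n with
  | zero => exact fun N g hg => ⟨0, by simpa using hg⟩
  | succ n ih =>
    intro N g hg
    obtain ⟨z, hz⟩ := ih N g hg
    set M := N + n
    set T := φ (t ^ M) with hT
    have hvT : Valued.v T = exp (-M) := by
      rw [hT, hφ.1, map_zpow₀, ht, ← exp_zsmul]; simp
    have hT0 : T ≠ 0 := fun h => by rw [h, map_zero] at hvT; exact exp_ne_zero hvT.symm
    have hq : Valued.v ((g - φ z) / T) ≤ (1 : WithZero (Multiplicative ℤ)) := by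
      rw [map_div₀, hvT, div_le_iff₀ exp_pos, one_mul, Valuation.map_sub_swap]
      exact hz
    obtain ⟨y, hy, hyc⟩ := hφ.2.1 (((g - φ z) / T).coeff 0)
    refine ⟨z + t ^ M * y, ?_⟩
    have h1 : Valued.v (φ y - (g - φ z) / T) ≤ exp (-(1 : ℤ)) := by
      refine (LaurentSeries.valuation_le_iff_coeff_lt_eq_zero F).mpr fun m hm => ?_
      rcases eq_or_lt_of_le (show m ≤ 0 by omega) with rfl | hm'
      · rw [HahnSeries.coeff_sub, hyc, sub_self]
      · rw [HahnSeries.coeff_sub,
          (LaurentSeries.valuation_le_iff_coeff_lt_eq_zero F).mp (show Valued.v (φ y) ≤ exp (-(0 : ℤ)) by rw [hφ.1]; simpa using hy) m hm',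
          (LaurentSeries.valuation_le_iff_coeff_lt_eq_zero F).mp (show Valued.v ((g - φ z) / T) ≤ exp (-(0 : ℤ)) by simpa using hq) m hm',
          sub_zero]
    have h2 : φ (z + t ^ M * y) - g = T * (φ y - (g - φ z) / T) := by
      rw [map_add, map_mul, ← hT]; field_simp; ring
    rw [h2, map_mul, hvT]
    refine (mul_le_mul_right h1 _).trans_eq ?_
    rw [← exp_add]; congr 1; push_cast; ring

variable {K L : Type u} {F E : Type v} [Field K] [Field L] [Field F] [Field E] [Algebra K F]
  [Algebra K L] [FiniteDimensional K L] [Algebra K E] [Algebra F E] [IsScalarTower K F E]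
  [Algebra L E] [IsScalarTower K L E]
  {v : Valuation F (WithZero (Multiplicative ℤ))} {w : Valuation E (WithZero (Multiplicative ℤ))}
  [v.HasExtension w]
  {φ : F →ₐ[K] K⸨X⸩} {ψ : E →ₐ[L] L⸨X⸩}

theorem valued_C_le (R : Type u) [Field R] (c : R) :
    Valued.v (HahnSeries.C c : R⸨X⸩) ≤ (1 : WithZero (Multiplicative ℤ)) := by
  rw [show (1 : WithZero (Multiplicative ℤ)) = exp (-(0 : ℤ)) by simp, LaurentSeries.valuation_le_iff_coeff_lt_eq_zero]
  intro n hn
  exact HahnSeries.coeff_single_of_ne hn.ne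

theorem exists_basis (hφ : LocRes.IsExpansionAt v φ) (hφs : Function.Surjective φ)
    (hψ : LocRes.IsExpansionAt w ψ) :
    ∃ (d : ℕ) (ω : Module.Basis (Fin d) F E), (∀ l, w (ω l) ≤ 1) ∧
      ∀ x, w x ≤ 1 → ∀ l, v (ω.repr x l) ≤ 1 := by
  classical
  obtain ⟨t, ht⟩ := hφs (HahnSeries.single 1 1)
  have hvt : v t = exp (-1 : ℤ) := by
    rw [← hφ.1, ht]
    simpa using LaurentSeries.valuation_single_zpow K 1
  have hw1 : ∀ c : F, w (algebraMap F E c) ≤ 1 ↔ v c ≤ 1 := Valuation.HasExtension.val_map_le_one_iff v w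
  have ht0 : t ≠ 0 := fun h => exp_ne_zero (hvt.symm.trans (by rw [h, map_zero]))
  set T := algebraMap F E t
  have hT0 : T ≠ 0 := (map_ne_zero _).2 ht0
  obtain ⟨e, he, hwT⟩ : ∃ e : ℕ, 0 < e ∧ w T = exp (-(e : ℤ)) := by
    have hlt : w T < 1 := by
      have h := (Valuation.HasExtension.val_map_lt_iff v w t 1).2 (by
        rw [map_one, hvt, ← exp_zero, exp_lt_exp]; omega)
      simpa using h
    have h0 : w T ≠ 0 := (map_ne_zero _).2 hT0
    have hlog : log (w T) < 0 := by
      rw [← exp_log h0, ← exp_zero, exp_lt_exp] at hlt; exact hlt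
    exact ⟨(-log (w T)).toNat, by omega, by
      rw [show -(((-log (w T)).toNat : ℕ) : ℤ) = log (w T) by omega, exp_log h0]⟩
  have hK : ∀ c : K, w (algebraMap K E c) ≤ 1 := fun c => by
    rw [← hψ.1, IsScalarTower.algebraMap_apply K L E, LocRes.map_algebraMap]
    exact valued_C_le L _
  -- the first `e` coefficients
  let O : Submodule K E :=
    { carrier := {x | w x ≤ 1}
      add_mem' := fun {a b} ha hb => (w.map_add a b).trans (max_le ha hb)
      zero_mem' := by simp
      smul_mem' := fun c x hx => by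
        show w (c • x) ≤ 1
        rw [Algebra.smul_def, map_mul]
        exact mul_le_one' (hK c) hx }
  let χ : O →ₗ[K] (Fin e → L) :=
    { toFun := fun x i => (ψ (x : E)).coeff (i : ℤ)
      map_add' := fun x y => by ext i; simp
      map_smul' := fun c x => by
        ext i
        simp only [Submodule.coe_smul, RingHom.id_apply, Pi.smul_apply]
        rw [Algebra.smul_def c (x : E), map_mul, IsScalarTower.algebraMap_apply K L E, LocRes.map_algebraMap,
          HahnSeries.C_mul_eq_smul, HahnSeries.coeff_smul, Algebra.smul_def c ((ψ (x : E)).coeff (i : ℤ))]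
        rfl }
  have hχ : ∀ x : O, χ x = 0 ↔ w (x : E) ≤ exp (-(e : ℤ)) := fun x => by
    rw [← hψ.1, LaurentSeries.valuation_le_iff_coeff_lt_eq_zero]
    refine ⟨fun h n hn => ?_, fun h => funext fun i => h _ (by have := i.2; omega)⟩
    rcases lt_or_ge n 0 with h0 | h0
    · exact (LaurentSeries.valuation_le_iff_coeff_lt_eq_zero L (D := 0)).1
        (by rw [hψ.1, neg_zero, exp_zero]; exact x.2) n h0
    · lift n to ℕ using h0
      exact congrFun h ⟨n, by omega⟩
  let W := LinearMap.range χ
  let β := Module.finBasis K W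
  have hβ : ∀ l, ∃ x : O, χ x = (β l : Fin e → L) := fun l => (β l).2
  choose ω hω using hβ
  let co : O → Fin (Module.finrank K W) → K := fun x l => β.repr ⟨χ x, ⟨x, rfl⟩⟩ l
  have hco : ∀ x : O, χ (∑ l, co x l • ω l) = χ x := fun x => by
    have h1 := congrArg W.subtype (β.sum_repr ⟨χ x, ⟨x, rfl⟩⟩)
    rw [map_sum] at h1 ⊢
    simp only [map_smul] at h1 ⊢
    simp only [hω]
    exact h1
  have hnext : ∀ x : O, ∃ y : O, (x : E) = (∑ l, co x l • (ω l : E)) + T * (y : E) := fun x => by
    have h1 : χ (x - ∑ l, co x l • ω l) = 0 := by rw [map_sub, hco, sub_self]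
    rw [hχ, ← hwT] at h1
    refine ⟨⟨((x : E) - ∑ l, co x l • (ω l : E)) * T⁻¹, ?_⟩, ?_⟩
    · show w _ ≤ 1
      rw [map_mul, map_inv₀]
      simp only [AddSubgroupClass.coe_sub, AddSubmonoidClass.coe_finsetSum, Submodule.coe_smul] at h1
      calc _ ≤ w T * (w T)⁻¹ := mul_le_mul' h1 le_rfl
        _ = 1 := mul_inv_cancel₀ ((map_ne_zero _).2 hT0)
    · rw [mul_comm T, inv_mul_cancel_right₀ hT0]
      abel
  choose next hnx using hnext
  let ε : F ≃+* K⸨X⸩ := RingEquiv.ofBijective φ.toRingHom ⟨φ.toRingHom.injective, hφs⟩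
  let cf : O → Fin (Module.finrank K W) → F := fun x l =>
    ε.symm ((PowerSeries.mk fun n => co (next^[n] x) l : PowerSeries K) : K⸨X⸩)
  have hφcf : ∀ x l, φ (cf x l) = ((PowerSeries.mk fun n => co (next^[n] x) l : PowerSeries K) : K⸨X⸩) :=
    fun x l => ε.apply_symm_apply _
  have hcf : ∀ x l, v (cf x l) ≤ 1 := fun x l => by
    rw [← hφ.1, hφcf]; exact (LaurentSeries.val_le_one_iff_eq_coe K _).2 ⟨_, rfl⟩
  have hrec : ∀ x l, cf x l = algebraMap K F (co x l) + t * cf (next x) l := fun x l => by
    apply φ.toRingHom.injective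
    show φ _ = φ _
    rw [map_add, map_mul, ht, hφcf, hφcf, LocRes.map_algebraMap, Algebra.algebraMap_self, RingHom.id_apply,
      ← PowerSeries.coe_X, ← HahnSeries.ofPowerSeries_C, ← PowerSeries.coe_mul]
    rw [← map_add]
    congr 1
    ext n
    cases n with
    | zero => simp
    | succ n =>
      rw [map_add, PowerSeries.coeff_C, if_neg n.succ_ne_zero, zero_add, PowerSeries.coeff_succ_X_mul,
        PowerSeries.coeff_mk, PowerSeries.coeff_mk, Function.iterate_succ_apply]
  let D : O → E := fun x => (x : E) - ∑ l, cf x l • (ω l : E)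
  have hDw : ∀ x, w (D x) ≤ 1 := fun x => (w.map_sub _ _).trans (max_le x.2 (w.map_sum_le fun l _ => by
    rw [Algebra.smul_def, map_mul]; exact mul_le_one' ((hw1 _).2 (hcf x l)) (ω l).2))
  have hDrec : ∀ x, D x = T * D (next x) := fun x => by
    simp only [D, hrec x, add_smul, Finset.sum_add_distrib, mul_smul, mul_sub, Finset.mul_sum,
      algebraMap_smul]
    conv_lhs => rw [hnx x]
    have : ∀ z : E, T * z = t • z := fun z => (Algebra.smul_def t z).symm
    simp only [this]
    abel
  have hD : ∀ x, D x = 0 := fun x => by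
    have hN : ∀ (N : ℕ) (x : O), w (D x) ≤ exp (-((N * e : ℕ) : ℤ)) := fun N => by
      induction N with
      | zero => intro x; simpa using hDw x
      | succ N ih =>
        intro x
        rw [hDrec x, map_mul, hwT]
        refine (mul_le_mul' le_rfl (ih (next x))).trans ?_
        rw [← exp_add, exp_le_exp]
        push_cast
        nlinarith
    by_contra h0
    have hne : w (D x) ≠ 0 := (map_ne_zero _).2 h0
    have h := hN ((-log (w (D x))).toNat + 1) x
    rw [← exp_log hne, exp_le_exp] at h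
    have : ((-log (w (D x))).toNat + 1 : ℤ) ≤ (((-log (w (D x))).toNat + 1) * e : ℕ) := by
      exact_mod_cast Nat.le_mul_of_pos_right _ he
    simp only [log_exp] at h
    omega
  have hexp : ∀ x : O, (x : E) = ∑ l, cf x l • (ω l : E) := fun x => sub_eq_zero.1 (hD x)
  have hli : LinearIndependent F fun l => (ω l : E) := by
    rw [Fintype.linearIndependent_iff]
    intro c hc
    by_contra hne
    push Not at hne
    obtain ⟨l₁, hl₁⟩ := hne
    obtain ⟨l₀, -, hmax⟩ := Finset.exists_max_image Finset.univ (fun l => v (c l)) ⟨l₁, Finset.mem_univ _⟩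
    have h00 : c l₀ ≠ 0 := fun h => hl₁ (by
      have := hmax l₁ (Finset.mem_univ _)
      rwa [h, map_zero, le_zero_iff, map_eq_zero] at this)
    let d := fun l => c l * (c l₀)⁻¹
    have hd : ∀ l, v (d l) ≤ 1 := fun l => by
      rw [map_mul, map_inv₀]
      calc _ ≤ v (c l₀) * (v (c l₀))⁻¹ := mul_le_mul' (hmax l (Finset.mem_univ _)) le_rfl
        _ = 1 := mul_inv_cancel₀ ((map_ne_zero _).2 h00)
    let r := fun l => (φ (d l)).coeff 0
    have hdr : ∀ l, v (d l - algebraMap K F (r l)) ≤ v t := fun l => by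
      rw [← hφ.1, hvt, LaurentSeries.valuation_le_iff_coeff_lt_eq_zero, map_sub, LocRes.map_algebraMap]
      intro n hn
      rw [HahnSeries.coeff_sub, sub_eq_zero]
      rcases eq_or_lt_of_le (show n ≤ 0 by omega) with rfl | h
      · simp [r]
      · rw [(LaurentSeries.valuation_le_iff_coeff_lt_eq_zero K (D := 0)).1
          (by rw [hφ.1, neg_zero, exp_zero]; exact hd l) n h]
        exact (HahnSeries.coeff_single_of_ne h.ne).symm
    have h1 : w (∑ l, r l • (ω l : E)) ≤ exp (-(e : ℤ)) := by
      have e1 : ∑ l, r l • (ω l : E) = -∑ l, (d l - algebraMap K F (r l)) • (ω l : E) := by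
        simp only [sub_smul, algebraMap_smul, Finset.sum_sub_distrib, d]
        rw [show ∑ l, (c l * (c l₀)⁻¹) • (ω l : E) = (c l₀)⁻¹ • ∑ l, c l • (ω l : E) by
          rw [Finset.smul_sum]; exact Finset.sum_congr rfl fun l _ => by rw [smul_smul, mul_comm], hc,
          smul_zero, zero_sub, neg_neg]
      rw [e1, Valuation.map_neg]
      refine w.map_sum_le fun l _ => ?_
      rw [Algebra.smul_def, map_mul, ← hwT]
      exact (mul_le_mul' ((Valuation.HasExtension.val_map_le_iff v w _ _).2 (hdr l)) (ω l).2).trans_eq (mul_one _)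
    have h2 : χ (∑ l, r l • ω l) = 0 := (hχ _).2 (by simpa using h1)
    have h3 : ∑ l, r l • β l = 0 := Subtype.ext (by
      rw [map_sum] at h2
      simp only [map_smul, hω] at h2
      simpa using h2)
    have h4 := Fintype.linearIndependent_iff.1 β.linearIndependent r h3 l₀
    have hd0 : d l₀ = 1 := mul_inv_cancel₀ h00
    simp [r, hd0] at h4
  have hsp : ⊤ ≤ Submodule.span F (Set.range fun l => (ω l : E)) := fun x _ => by
    obtain ⟨N, hN⟩ : ∃ N : ℕ, w (T ^ N * x) ≤ 1 := by
      rcases eq_or_ne x 0 with rfl | hx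
      · exact ⟨0, by simp⟩
      · refine ⟨(log (w x)).toNat, ?_⟩
        rw [map_mul, map_pow, hwT, ← exp_log ((map_ne_zero w).2 hx), ← exp_nsmul, ← exp_add, ← exp_zero,
          exp_le_exp, nsmul_eq_mul, log_exp]
        have : ((log (w x)).toNat : ℤ) ≤ (log (w x)).toNat * e := by
          exact_mod_cast Nat.le_mul_of_pos_right _ he
        nlinarith [Int.self_le_toNat (log (w x))]
    have h1 : T ^ N * x ∈ Submodule.span F (Set.range fun l => (ω l : E)) := by
      rw [show T ^ N * x = _ from hexp ⟨_, hN⟩]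
      exact Submodule.sum_mem _ fun l _ => Submodule.smul_mem _ _ (Submodule.subset_span ⟨l, rfl⟩)
    have h2 := Submodule.smul_mem _ ((t ^ N)⁻¹) h1
    rwa [show (t ^ N)⁻¹ • (T ^ N * x) = x by
      rw [Algebra.smul_def, map_inv₀, map_pow, inv_mul_cancel_left₀ (pow_ne_zero _ hT0)]] at h2
  refine ⟨_, Module.Basis.mk hli hsp, fun l => by rw [Module.Basis.mk_apply]; exact (ω l).2, fun x hx l => ?_⟩
  have h1 : x = ∑ l, cf ⟨x, hx⟩ l • Module.Basis.mk hli hsp l := by
    simp only [Module.Basis.mk_apply]; exact hexp ⟨x, hx⟩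
  rw [h1, Module.Basis.repr_sum_self]
  exact hcf _ l

theorem trace_resExp [FiniteDimensional F E] (hφ : LocRes.IsExpansionAt v φ) (hφs : Function.Surjective φ)
    (hψ : LocRes.IsExpansionAt w ψ) (x : F) (y : E) :
    Algebra.trace K L (LocRes.resExp ψ y (algebraMap F E x)) = LocRes.resExp φ (Algebra.trace F E y) x := by
  classical
  obtain ⟨d, ω, hω, hrepr⟩ := exists_basis hφ hφs hψ
  have hKF : ∀ c : K, v (algebraMap K F c) ≤ 1 := fun c => by
    rw [← hφ.1, LocRes.map_algebraMap]; exact valued_C_le K _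
  have hKE : ∀ c : K, w (algebraMap K E c) ≤ 1 := fun c => by
    rw [IsScalarTower.algebraMap_apply K F E]
    exact (Valuation.HasExtension.val_map_le_one_iff v w _).2 (hKF c)
  let O : Submodule K F :=
    { carrier := {z | v z ≤ 1}
      add_mem' := fun {a b} ha hb => (v.map_add a b).trans (max_le ha hb)
      zero_mem' := by simp
      smul_mem' := fun c z hz => by
        show v (c • z) ≤ 1
        rw [Algebra.smul_def, map_mul]
        exact mul_le_one' (hKF c) hz }
  let O' : Submodule K E :=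
    { carrier := {z | w z ≤ 1}
      add_mem' := fun {a b} ha hb => (w.map_add a b).trans (max_le ha hb)
      zero_mem' := by simp
      smul_mem' := fun c z hz => by
        show w (c • z) ≤ 1
        rw [Algebra.smul_def, map_mul]
        exact mul_le_one' (hKE c) hz }
  let ψ' : E →ₐ[K] L⸨X⸩ :=
    { ψ.toRingHom with
      commutes' := fun c => by
        show ψ (algebraMap K E c) = _
        rw [IsScalarTower.algebraMap_apply K L E, LocRes.map_algebraMap, HahnSeries.algebraMap_apply',
          PowerSeries.algebraMap_apply, HahnSeries.ofPowerSeries_C]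
        rfl }
  have hψ' : LocRes.IsExpansionAt w ψ' := hψ
  obtain ⟨p, hp⟩ := Submodule.exists_isCompl O
  let rv : F →ₗ[K] O := Submodule.linearProjOfIsCompl O p hp
  have hrv : ∀ z : O, rv z = z := Submodule.linearProjOfIsCompl_apply_left hp
  have hωO : ∀ (c : F) (l : Fin d), v c ≤ 1 → c • ω l ∈ O' := fun c l hc => by
    show w (c • ω l) ≤ 1
    rw [Algebra.smul_def, map_mul]
    exact mul_le_one' ((Valuation.HasExtension.val_map_le_one_iff v w _).2 hc) (hω l)
  let crd : Fin d → (E →ₗ[K] F) := fun l => (ω.coord l).restrictScalars K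
  let π : Fin d → (O' →ₗ[K] O) := fun l => LinearMap.codRestrict O (crd l ∘ₗ O'.subtype) fun z => hrepr _ z.2 l
  let inc : Fin d → (O →ₗ[K] O') := fun l => LinearMap.codRestrict O'
    ((LinearMap.toSpanSingleton F E (ω l)).restrictScalars K ∘ₗ O.subtype) fun c => hωO c l c.2
  have hπinc : ∀ l m (c : O), π m (inc l c) = if m = l then c else 0 := fun l m c => by
    apply Subtype.ext
    show ω.repr ((c : F) • ω l) m = _
    rw [map_smul, Finsupp.smul_apply, Module.Basis.repr_self, Finsupp.single_apply]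
    split_ifs with h1 h2 <;> simp_all
  let r' : E →ₗ[K] O' := ∑ l, inc l ∘ₗ rv ∘ₗ crd l
  have hr'π : ∀ (z : E) (m : Fin d), π m (r' z) = rv (ω.repr z m) := fun z m => by
    simp only [r', LinearMap.sum_apply, map_sum, LinearMap.comp_apply, hπinc]
    rw [Finset.sum_ite_eq Finset.univ m, if_pos (Finset.mem_univ _)]
    rfl
  have hext : ∀ a b : O', (∀ m, π m a = π m b) → a = b := fun a b h => Subtype.ext (ω.repr.injective
    (Finsupp.ext fun m => congrArg Subtype.val (h m)))
  have hr' : ∀ z : O', r' z = z := fun z => hext _ _ fun m => by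
    rw [hr'π]; exact hrv ⟨_, hrepr _ z.2 m⟩
  let b : Fin d → Fin d → F := fun m l => ω.repr (y * ω l) m
  set x' := algebraMap F E x with hx'
  have hy : ∀ (z : O') (m : Fin d), π m (blk O' r' (mulLeft K y) z) =
      ∑ l, blk O rv (mulLeft K (b m l)) (π l z) := fun z m => by
    show π m (r' (y * z)) = _
    rw [hr'π]
    have e : ω.repr (y * (z : E)) m = ∑ l, b m l * ω.repr (z : E) l := by
      conv_lhs => rw [← ω.sum_repr (z : E), Finset.mul_sum]
      rw [map_sum, Finsupp.finsetSum_apply]
      refine Finset.sum_congr rfl fun l _ => ?_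
      rw [mul_smul_comm, map_smul, Finsupp.smul_apply, smul_eq_mul, mul_comm]
    rw [e, map_sum]
    rfl
  have hx : ∀ (z : O') (m : Fin d), π m (blk O' r' (mulLeft K x') z) =
      blk O rv (mulLeft K x) (π m z) := fun z m => by
    show π m (r' (x' * z)) = _
    rw [hr'π, hx', ← Algebra.smul_def, map_smul, Finsupp.smul_apply]
    rfl
  let cm := fun g : F => Residue24.comm (blk O rv (mulLeft K g)) (blk O rv (mulLeft K x))
  have hloc : ∀ g : F, FinRank (cm g) ∧ ftr (cm g) = LocRes.locRes φ g x := fun g =>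
    (ftr_comm_valuation v O (fun _ => Iff.rfl) φ hφ.1
      (fun f N => by obtain ⟨z, rfl⟩ := hφs f; exact ⟨z, by simp⟩) rv hrv g x).2
  have hcomm : Residue24.comm (blk O' r' (mulLeft K y)) (blk O' r' (mulLeft K x')) =
      ∑ m, ∑ l, inc m ∘ₗ cm (b m l) ∘ₗ π l := by
    refine LinearMap.ext fun z => hext _ _ fun n => ?_
    rw [Residue24.comm, LinearMap.sub_apply, map_sub, Module.End.mul_apply, Module.End.mul_apply, hy, hx, hy, map_sum,
      ← Finset.sum_sub_distrib]
    simp only [LinearMap.sum_apply, map_sum, LinearMap.comp_apply, hπinc, hx]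
    rw [Finset.sum_comm]
    refine Finset.sum_congr rfl fun l _ => ?_
    rw [Finset.sum_ite_eq Finset.univ n, if_pos (Finset.mem_univ _)]
    rfl
  have hfr1 : ∀ m l, FinRank (inc m ∘ₗ cm (b m l) ∘ₗ π l) := fun m l =>
    ((hloc (b m l)).1.comp_right _).comp_left _
  have htr1 : ftr (Residue24.comm (blk O' r' (mulLeft K y)) (blk O' r' (mulLeft K x'))) =
      LocRes.locRes φ (Algebra.trace F E y) x := by
    rw [hcomm, ftr_sum _ _ fun m _ => finRank_sum _ _ fun l _ => hfr1 m l]
    have e : ∀ m, ftr (∑ l, inc m ∘ₗ cm (b m l) ∘ₗ π l) = LocRes.locRes φ (b m m) x := fun m => by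
      rw [ftr_sum _ _ fun l _ => hfr1 m l, Finset.sum_eq_single m]
      · rw [ftr_comp_comm' (inc m) _ ((hloc (b m m)).1.comp_right _), ← (hloc (b m m)).2]
        refine congrArg ftr (LinearMap.ext fun c => ?_)
        simp only [LinearMap.comp_apply, hπinc, if_true]
      · intro l _ hl
        rw [ftr_comp_comm' (inc m) _ ((hloc (b m l)).1.comp_right _)]
        convert ftr_zero (k := K) (V := O) using 2
        refine LinearMap.ext fun c => ?_
        simp only [LinearMap.comp_apply, hπinc, if_neg hl, map_zero, LinearMap.zero_apply]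
      · simp
    simp only [e]
    rw [Algebra.trace_eq_matrix_trace ω, Matrix.trace]
    simp only [Matrix.diag_apply, Algebra.leftMulMatrix_eq_repr_mul]
    rw [LocRes.locRes, LocRes.resExp, map_sum, Finset.sum_mul, map_sum, map_sum]
    exact Finset.sum_congr rfl fun m _ => rfl
  have hdense : ∀ (f : L⸨X⸩) (N : ℤ), ∃ z : E, Valued.v (ψ' z - f) ≤ exp (-N) :=
    exists_near_expansion' hψ'
  have h2 := (ftr_comm_valuation w O' (fun _ => Iff.rfl) ψ' hψ.1 hdense r' hr' y x').2.2
  rw [htr1] at h2
  rw [LocRes.locRes, LocRes.locRes, Algebra.trace_self_apply] at h2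
  exact h2.symm

end Groth.Agent.ResTrace28
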